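import Groth.Agent.GlueHomLib.Core
import Groth.Agent.GlueCoverLib.Cover
import Groth.Agent.CMFlatLib.BaseChange
import Groth.Agent.ASp.Diag
import Groth.Agent.ASp.FpqcHom
import Groth.Agent.ASp.DecentPt
import Groth.Agent.ASp.Infinitesimal
/-!
Glueing data of morphisms into a separated space agree on the overlap of the modification with itself.
-/

set_option autoImplicit false
set_option backward.isDefEq.respectTransparency false
set_option backward.isDefEq.respectTransparency.types false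

universe u

open CategoryTheory CategoryTheory.Limits AlgebraicGeometry Opposite

namespace Groth.Agent.GlueHomLib

open _root_.AlgSp Groth.Agent.ASp

variable {S : Scheme.{u}} {X Y Z FZ U X₁ X₂ A₁ : Space S} {f : Y ⟶ X} {i : Z ⟶ X} {iY : FZ ⟶ Y} {fZ : FZ ⟶ Z}
  {j : U ⟶ X} {p₁ : X₁ ⟶ X} {p₂ : X₂ ⟶ X} {a₁Y : A₁ ⟶ X₁} {r₁Y : A₁ ⟶ Y}

/-- Two maps on a self-overlap which agree on the diagonal and over the open are equal. -/
theorem eq_of_agree (hi : RepWith @IsClosedImmersion i.hom) (hifp : LocP @LocallyOfFinitePresentation i.hom)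
    (hFZ : IsPullback iY.hom fZ.hom f.hom i.hom) [IsIso fZ]
    (hflat : ∀ y ∈ Set.range (Points.map iY.hom), IsFlatAtMor f.hom y)
    (hj : RepWith @IsOpenImmersion j.hom)
    (hU : Set.range (Points.map j.hom) = (Set.range (Points.map i.hom))ᶜ)
    (hp₂ : IsSeparatedMor p₂.hom) (h₁Y : IsPullback a₁Y.hom r₁Y.hom p₁.hom f.hom)
    {D : Sp S} {q₁ q₂ : D ⟶ A₁.obj} (hD : IsPullback q₁ q₂ a₁Y.hom a₁Y.hom)
    (β₁ β₂ : D ⟶ X₂.obj) (hβ : β₁ ≫ p₂.hom = β₂ ≫ p₂.hom)
    (hdiag : ∀ (T : Over S) (d : (yon S).obj T ⟶ D), d ≫ q₁ = d ≫ q₂ → d ≫ β₁ = d ≫ β₂)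
    (hopen : ∀ (T : Over S) (d : (yon S).obj T ⟶ D) (l : (yon S).obj T ⟶ U.obj),
      l ≫ j.hom = d ≫ q₁ ≫ a₁Y.hom ≫ p₁.hom → d ≫ β₁ = d ≫ β₂) : β₁ = β₂ := by
  have hDa : IsAlgSpace D := isAlgSpace_of_isPullback X₁.property.diag A₁.property A₁.property hD
  obtain ⟨U₁, VX, aU, b, k, haU, haUs, hb, -, ek⟩ :=
    Groth.Agent.Inf.exists_chart (f := a₁Y.hom ≫ p₁.hom) A₁.property X.property
  let V : U₁.left.affineOpens → Over S := fun A => Over.mk (A.1.ι ≫ U₁.hom)
  let inc : ∀ A, V A ⟶ U₁ := fun A => Over.homMk A.1.ι rfl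
  let aV : ∀ A, (yon S).obj (V A) ⟶ A₁.obj := fun A => (yon S).map (inc A) ≫ aU
  haveI : ∀ A, IsAffine (V A).left := fun A => A.2
  have haV : ∀ A, RepWith @Etale (aV A) := fun A =>
    repWith_comp (repWith_yon_map (inferInstanceAs (Etale A.1.ι))) haU
  have hcov : IsFpqcCover (fun A => (yon S).obj (V A)) aV := by
    refine isFpqcCover_of_fppf A₁.property (fun A => IsAlgSpace.yon_obj _)
      (fun A => locP_of_repWith (repWith_mono (fun _ _ g (hg : Etale g) => inferInstanceAs (Flat g)) (haV A)))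
      (fun A => locP_of_repWith (repWith_mono
        (fun _ _ g (hg : Etale g) => inferInstanceAs (LocallyOfFinitePresentation g)) (haV A))) fun x => ?_
    obtain ⟨v, rfl⟩ := surjective_ofPt haUs x
    obtain ⟨A, hA, hvA, -⟩ := exists_isAffineOpen_mem_and_subset (x := v) (U := (⊤ : U₁.left.Opens)) (by simp)
    refine ⟨⟨A, hA⟩, Points.schemeEquiv (V ⟨A, hA⟩) ⟨v, hvA⟩, ?_⟩
    rw [Points.map_comp, GlueCoverLib.map_schemeEquiv]
    exact (Points.ofPt_eq_map_ofScheme aU v).symm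
  refine hom_ext_fpqcCover (isFpqcCover_baseChange (Zi := fun A => pullback q₁ (aV A))
    (cz := fun A => pullback.snd q₁ (aV A)) (gz := fun A => pullback.fst q₁ (aV A)) A₁.property hDa
    (fun A => IsAlgSpace.yon_obj _) (fun A => (IsPullback.of_hasPullback q₁ (aV A)).flip) hcov) X₂.property fun A => ?_
  let kV : V A ⟶ VX := inc A ≫ k
  let g : (yon S).obj (V A) ⟶ X.obj := (yon S).map kV ≫ b
  have hg : g = aV A ≫ a₁Y.hom ≫ p₁.hom := by
    simp only [g, kV, aV, Functor.map_comp, Category.assoc, ← ek]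
  let Dv := pullback f.hom g
  let π : Dv ⟶ (yon S).obj (V A) := pullback.snd _ _
  let pY : Dv ⟶ Y.obj := pullback.fst _ _
  have sqv : IsPullback pY π f.hom g := IsPullback.of_hasPullback _ _
  have hDva : IsAlgSpace Dv := isAlgSpace_pullback X.property.diag Y.property (IsAlgSpace.yon_obj _) _ _
  let snd' : Dv ⟶ A₁.obj := h₁Y.lift (π ≫ aV A ≫ a₁Y.hom) pY (by
    rw [Category.assoc, Category.assoc, ← hg]; exact sqv.w.symm)
  let ψ : Dv ⟶ D := hD.lift (π ≫ aV A) snd' (by rw [Category.assoc]; exact (h₁Y.lift_fst _ _ _).symm)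
  have hψ₁ : ψ ≫ q₁ = π ≫ aV A := hD.lift_fst _ _ _
  have hψ₂ : ψ ≫ q₂ = snd' := hD.lift_snd _ _ _
  obtain ⟨θ, hθ⟩ : ∃ θ : pullback q₁ (aV A) ⟶ Dv, θ ≫ ψ = pullback.fst q₁ (aV A) := by
    let θ := sqv.lift (pullback.fst q₁ (aV A) ≫ q₂ ≫ r₁Y.hom) (pullback.snd q₁ (aV A)) (by
      rw [hg, ← reassoc_of% (pullback.condition (f := q₁) (g := aV A)), Category.assoc, Category.assoc,
        ← h₁Y.w, ← reassoc_of% hD.w])
    refine ⟨θ, hD.hom_ext ?_ (h₁Y.hom_ext ?_ ?_)⟩
    · rw [Category.assoc, hψ₁, sqv.lift_snd_assoc, pullback.condition]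
    · simp only [Category.assoc, hψ₂, snd', h₁Y.lift_fst, θ, π, sqv.lift_snd_assoc]
      rw [← reassoc_of% (pullback.condition (f := q₁) (g := aV A)), ← hD.w]
    · simp only [Category.assoc, hψ₂, snd', h₁Y.lift_snd, θ, pY, sqv.lift_fst]
  suffices hv : ψ ≫ β₁ = ψ ≫ β₂ by rw [← hθ, Category.assoc, Category.assoc, hv]
  let σ : (yon S).obj (V A) ⟶ Dv := sqv.lift (aV A ≫ r₁Y.hom) (𝟙 _) (by
    rw [Category.assoc, ← h₁Y.w, Category.id_comp, hg])
  have hσπ : σ ≫ π = 𝟙 _ := sqv.lift_snd _ _ _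
  have hσ : (σ ≫ ψ) ≫ q₁ = (σ ≫ ψ) ≫ q₂ := by
    rw [Category.assoc, Category.assoc, hψ₁, hψ₂, reassoc_of% hσπ]
    refine h₁Y.hom_ext ?_ ?_
    · simp only [Category.assoc, snd', h₁Y.lift_fst, reassoc_of% hσπ]
    · simp only [Category.assoc, snd', h₁Y.lift_snd]
      exact (sqv.lift_fst _ _ _).symm
  let pr : Dv ⟶ pullback p₂.hom p₂.hom := pullback.lift (ψ ≫ β₁) (ψ ≫ β₂) (by rw [Category.assoc, Category.assoc, hβ])
  have sqe := IsPullback.of_hasPullback pr (pullback.diagonal p₂.hom)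
  let e : pullback pr (pullback.diagonal p₂.hom) ⟶ Dv := pullback.fst _ _
  have he : RepWith @IsClosedImmersion e := repWith_of_isPullback sqe.flip hp₂
  have hlift : ∀ {T : Over S} (d : (yon S).obj T ⟶ Dv), (d ≫ ψ) ≫ β₁ = (d ≫ ψ) ≫ β₂ → ∃ l, l ≫ e = d := by
    intro T d hd
    exact ⟨sqe.lift d (d ≫ ψ ≫ β₁) (by
      apply pullback.hom_ext
      · simp [pr]
      · simp [pr]
        simpa using hd.symm), sqe.lift_fst _ _ _⟩
  obtain ⟨J, fstJ, hJ⟩ := exists_isSubIdeal hi g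
  haveI : IsClosedImmersion (subInc J).left := inferInstanceAs (IsClosedImmersion J.subschemeι)
  have hJfg : (J.ideal ⟨⊤, isAffineOpen_top (V A).left⟩).FG := by
    haveI : LocallyOfFinitePresentation (subInc J).left :=
      (repWith_of_locP X.property hi.1 hifp).2 g fstJ (subInc J) hJ
    have h := (lfp_iff_fg_of_isClosedImmersion (subInc J).left).1 inferInstance
    rw [← J.ker_subschemeι, Scheme.Hom.ker_apply]
    exact h
  have hsupp : ∀ u : ↥(V A).left, u ∈ J.support ↔ Points.ofPt g u ∈ Set.range (Points.map i.hom) := by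
    intro u
    constructor
    · intro hu
      obtain ⟨z, rfl⟩ : u ∈ Set.range J.subschemeι := by rw [J.range_subschemeι]; exact hu
      refine ⟨Points.ofPt fstJ z, ?_⟩
      rw [Points.map_ofPt, hJ.w, ofPt_yon_map_comp]
      rfl
    · rintro ⟨ζ, hζ⟩
      obtain ⟨z, -, hz⟩ := points_exists_of_isPullback hJ ζ (Points.ofScheme (V A) u)
        (by rw [hζ, ← Points.ofPt_eq_map_ofScheme])
      obtain ⟨z, rfl⟩ := (Points.schemeHomeo (subOver J)).surjective z
      rw [Points.map_yon_map_apply] at hz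
      have hz : (subInc J).left z = u := (Points.schemeHomeo (V A)).injective hz
      show u ∈ (J.support : Set ↥(V A).left)
      rw [← J.range_subschemeι]
      exact ⟨z, hz⟩
  let P₀ := pullback f.hom b
  have sq₀ := IsPullback.of_hasPullback f.hom b
  have hP₀ : IsAlgSpace P₀ := isAlgSpace_pullback X.property.diag Y.property (IsAlgSpace.yon_obj _) _ _
  obtain ⟨W₀, a₀, ha₀, ha₀s⟩ := hP₀.atlas
  obtain ⟨h₀, hh₀⟩ := (yon S).map_surjective (a₀ ≫ pullback.snd f.hom b)
  let φ : Dv ⟶ P₀ := sq₀.lift pY (π ≫ (yon S).map kV) (by rw [Category.assoc]; exact sqv.w)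
  have sqφ : IsPullback φ π (pullback.snd f.hom b) ((yon S).map kV) :=
    IsPullback.of_right (h₁₂ := pullback.fst f.hom b) (v₁₃ := f.hom) (h₂₂ := b)
      (by rw [sq₀.lift_fst]; exact sqv) (sq₀.lift_snd _ _ _) sq₀
  have sqW := isPullback_yon_map (IsPullback.of_hasPullback h₀ kV)
  let a : (yon S).obj (pullback h₀ kV) ⟶ Dv := sqφ.lift ((yon S).map (pullback.fst h₀ kV) ≫ a₀)
    ((yon S).map (pullback.snd h₀ kV)) (by rw [Category.assoc, ← hh₀, sqW.w])
  have hsqa : IsPullback ((yon S).map (pullback.fst h₀ kV)) a a₀ φ := by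
    refine IsPullback.of_bot ?_ (sqφ.lift_fst _ _ _).symm sqφ
    rw [sqφ.lift_snd, ← hh₀]
    exact sqW
  have hiso : IsIso e := by
    refine isIso_of_section J hJfg σ hσπ (repWith_of_isPullback hsqa ha₀) (repWith_of_isPullback hsqa ha₀s)
      (q := pullback.snd h₀ kV) (sqφ.lift_snd _ _ _) ?_ ?_ he (hlift σ (hdiag _ _ hσ)) ?_
    · intro T d d' t hd hd'
      refine sqv.hom_ext ?_ hd'
      have e1 : (d ≫ pY) ≫ f.hom = ((yon S).map t ≫ fstJ) ≫ i.hom := by
        rw [Category.assoc, sqv.w, reassoc_of% hd, Functor.map_comp, Category.assoc, Category.assoc, hJ.w]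
      have e2 : (d' ≫ pY) ≫ f.hom = ((yon S).map t ≫ fstJ) ≫ i.hom := by
        rw [← e1, Category.assoc, Category.assoc, sqv.w, reassoc_of% hd']
      haveI : IsIso fZ.hom := (ObjectProperty.ι (IsAlgSpace (S := S))).map_isIso fZ
      have e3 : hFZ.lift _ _ e2 = hFZ.lift _ _ e1 :=
        (cancel_mono fZ.hom).1 (by rw [hFZ.lift_snd, hFZ.lift_snd])
      have := congrArg (· ≫ iY.hom) e3
      simpa using this
    · intro w hw
      let y : Points Y.obj := Points.ofPt (a₀ ≫ pullback.fst f.hom b) ((pullback.fst h₀ kV).left w)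
      have ey : (a₀ ≫ pullback.fst f.hom b) ≫ f.hom = (yon S).map h₀ ≫ b := by
        rw [Category.assoc, pullback.condition, ← Category.assoc, hh₀]
      have hy : Points.map f.hom y ∈ Set.range (Points.map i.hom) := by
        have h1 : Points.map f.hom y = Points.ofPt g ((pullback.snd h₀ kV).left w) := by
          rw [Points.map_ofPt, ey, ← ofPt_yon_map_comp, ← Functor.map_comp_assoc, pullback.condition,
            Functor.map_comp_assoc, ofPt_yon_map_comp]
        rw [h1]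
        exact (hsupp _).1 hw
      obtain ⟨ζ, hζ⟩ := hy
      obtain ⟨p, hp, -⟩ := points_exists_of_isPullback hFZ y ζ hζ.symm
      have hfl := hflat y ⟨p, hp⟩ (a₀ ≫ pullback.fst f.hom b) b h₀ ((pullback.fst h₀ kV).left w)
        (repWith_comp ha₀ (repWith_of_isPullback sq₀.flip hb)) hb ey rfl
      exact CMFlatLib.flat_stalkMap_baseChange (isPullback_left (IsPullback.of_hasPullback h₀ kV)) w hfl
    · intro T d t hd ht
      refine hlift d ?_
      obtain ⟨l, hl⟩ := exists_lift_openImm hj (d ≫ π ≫ g) fun u => by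
        rw [hU, reassoc_of% hd, ofPt_yon_map_comp]
        exact fun h => ht u ((hsupp _).2 h)
      exact hopen T (d ≫ ψ) l (by rw [hl, Category.assoc, reassoc_of% hψ₁, hg])
  have hpr : pr ≫ pullback.fst p₂.hom p₂.hom = pr ≫ pullback.snd p₂.hom p₂.hom := by
    rw [← cancel_epi e]
    simp only [e, reassoc_of% sqe.w, pullback.diagonal_fst, pullback.diagonal_snd]
  simpa [pr] using hpr

end Groth.Agent.GlueHomLib
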