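import Groth.Agent.GlueHomLib.Torsion
import Groth.Agent.ASp.SchImageGen
import Groth.Agent.IdealStalkLib.Comap
import Groth.Agent.IdealStalkLib.Cartier
/-!
A closed subspace containing a section and everything away from a closed set is the whole space,
when the space is flat over the base near the closed set and maps isomorphically over it.
-/

set_option autoImplicit false
set_option backward.isDefEq.respectTransparency false
set_option backward.isDefEq.respectTransparency.types false

universe u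

open CategoryTheory CategoryTheory.Limits AlgebraicGeometry Opposite

namespace Groth.Agent.GlueHomLib

theorem surjective_and_ker_of_eq {W : Scheme.{u}} (I : W.IdealSheafData) (g : I.subscheme ⟶ W)
    (hg : g = I.subschemeι) (z : ↥I.subscheme) :
    Function.Surjective (g.stalkMap z) ∧ RingHom.ker (g.stalkMap z).hom = IntMult.stalkIdeal I (g z) := by
  subst hg
  exact ⟨I.subschemeι.stalkMap_surjective z, IdealStalkLib.ker_stalkMap_subschemeι I z⟩

/-- The stalk form. -/
theorem eq_zero_stalk {V W P : Scheme.{u}} (q : W ⟶ V) (m : P ⟶ W) [Flat (m ≫ q)] (J : V.IdealSheafData)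
    (k : (J.comap q).subscheme ⟶ P) (hk : k ≫ m = (J.comap q).subschemeι)
    (z : ↥(J.comap q).subscheme) (hfl : (q.stalkMap ((k ≫ m) z)).hom.Flat)
    (hI : (IntMult.stalkIdeal J (q ((k ≫ m) z))).FG) (n : ℕ) (x : W.presheaf.stalk ((k ≫ m) z))
    (hx : ∀ a ∈ IntMult.stalkIdeal J (q ((k ≫ m) z)) ^ n, q.stalkMap ((k ≫ m) z) a * x = 0)
    (hmx : m.stalkMap (k z) x = 0) : x = 0 := by
  obtain ⟨hs, hker⟩ := surjective_and_ker_of_eq (J.comap q) (k ≫ m) hk z
  rw [IdealStalkLib.stalkIdeal_comap, Scheme.Hom.stalkMap_comp, CommRingCat.hom_comp] at hker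
  rw [Scheme.Hom.stalkMap_comp] at hs
  have hflC : ((m.stalkMap (k z)).hom.comp (q.stalkMap ((k ≫ m) z)).hom).Flat := by
    have := Flat.stalkMap (m ≫ q) (k z)
    rwa [Scheme.Hom.stalkMap_comp, CommRingCat.hom_comp] at this
  let A := V.presheaf.stalk (q ((k ≫ m) z))
  let B := W.presheaf.stalk ((k ≫ m) z)
  let C := P.presheaf.stalk (k z)
  let Q := (J.comap q).subscheme.presheaf.stalk z
  let fB : A →+* B := (q.stalkMap ((k ≫ m) z)).hom
  let fC : B →+* C := (m.stalkMap (k z)).hom
  let fQ : C →+* Q := (k.stalkMap z).hom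
  letI : Algebra A B := fB.toAlgebra
  letI : Algebra A C := (fC.comp fB).toAlgebra
  letI : Algebra A Q := (fQ.comp (fC.comp fB)).toAlgebra
  let φ : B →ₐ[A] C := { fC with commutes' := fun _ => rfl }
  let ρ : C →ₐ[A] Q := { fQ with commutes' := fun _ => rfl }
  haveI : Module.Flat A B := hfl
  haveI : Module.Flat A C := hflC
  refine eq_zero_of_torsion (IntMult.stalkIdeal J (q ((k ≫ m) z))) hI φ ρ hs (le_of_eq ?_) n x ?_ hmx
  · exact hker
  · intro a ha
    rw [Algebra.smul_def]
    exact hx a ha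

open _root_.AlgSp Groth.Agent.ASp

variable {S : Scheme.{u}}

theorem isIso_of_section {V : Over S} [IsAffine V.left] (J : V.left.IdealSheafData)
    (hJ : (J.ideal ⟨⊤, isAffineOpen_top V.left⟩).FG)
    {D : Sp S} {π : D ⟶ (yon S).obj V} (σ : (yon S).obj V ⟶ D) (hσ : σ ≫ π = 𝟙 _)
    {W : Over S} {a : (yon S).obj W ⟶ D} (ha : RepWith @Etale a) (has : RepWith @Surjective a) {q : W ⟶ V}
    (hq : a ≫ π = (yon S).map q)
    (hmono : ∀ (T : Over S) (d d' : (yon S).obj T ⟶ D) (t : T ⟶ subOver J),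
      d ≫ π = (yon S).map (t ≫ subInc J) → d' ≫ π = d ≫ π → d' = d)
    (hflat : ∀ w : ↥W.left, q.left w ∈ J.support → (q.left.stalkMap w).hom.Flat)
    {E : Sp S} {e : E ⟶ D} (he : RepWith @IsClosedImmersion e) (hsec : ∃ l, l ≫ e = σ)
    (hout : ∀ (T : Over S) (d : (yon S).obj T ⟶ D) (t : T ⟶ V), d ≫ π = (yon S).map t →
      (∀ z, t.left z ∉ J.support) → ∃ l, l ≫ e = d) :
    IsIso e := by
  obtain ⟨K, hK⟩ := exists_isSubIdeal he a
  haveI : Mono e := mono_of_repWith (P := @IsClosedImmersion) (fun _ h => by haveI := h; infer_instance) he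
  haveI : Epi a := epi_of_etale_surjective ha has
  suffices hbot : K = ⊥ by
    obtain ⟨l, hl⟩ := (exists_lift_iff_le_ker he hK (𝟙 D) a (w := 𝟙 W) (by simp)).2 (hbot ▸ bot_le)
    exact ⟨l, (cancel_mono e).1 (by rw [Category.assoc, hl, Category.comp_id, Category.id_comp]), hl⟩
  obtain ⟨P, m, n, sqP, hn⟩ : ∃ (P : Over S) (m : P ⟶ W) (n : P ⟶ V),
      IsPullback ((yon S).map m) ((yon S).map n) a σ ∧ Etale n.left := by
    obtain ⟨m, hm⟩ := (yon S).map_surjective (ha.1.fst σ)
    exact ⟨_, m, ha.1.snd σ, hm ▸ ha.1.isPullback σ, ha.2 _ _ _ (ha.1.isPullback σ)⟩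
  have hmq : m ≫ q = n := (yon S).map_injective (by
    rw [Functor.map_comp, ← hq, ← Category.assoc, sqP.w, Category.assoc, hσ, Category.comp_id])
  haveI : Etale n.left := hn
  haveI hflP : Flat (m.left ≫ q.left) := by
    rw [← Over.comp_left, hmq]
    exact (inferInstance : Flat n.left)
  let K' := J.comap q.left
  have hfst : ((J.comapIso q.left).hom ≫ pullback.snd q.left J.subschemeι) ≫ J.subschemeι =
      K'.subschemeι ≫ q.left := by
    rw [Category.assoc, ← pullback.condition, ← Category.assoc]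
    exact congrArg (· ≫ q.left) (Scheme.IdealSheafData.comapIso_hom_fst J q.left)
  let t : subOver K' ⟶ subOver J := Over.homMk ((J.comapIso q.left).hom ≫ pullback.snd q.left J.subschemeι) (by
    show _ ≫ J.subschemeι ≫ V.hom = K'.subschemeι ≫ W.hom
    rw [← Category.assoc _ J.subschemeι, hfst, Category.assoc, Over.w])
  have ht : t ≫ subInc J = subInc K' ≫ q := Over.OverMorphism.ext hfst
  have hd : (yon S).map (subInc K' ≫ q) ≫ σ = (yon S).map (subInc K') ≫ a :=
    hmono _ _ _ t (by rw [Category.assoc, hq, ← Functor.map_comp, ht])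
      (by rw [Category.assoc, hσ, Category.comp_id, Category.assoc, hq, Functor.map_comp])
  obtain ⟨k, hk⟩ := (yon S).map_surjective
    (sqP.lift ((yon S).map (subInc K')) ((yon S).map (subInc K' ≫ q)) hd.symm)
  have hkm : k ≫ m = subInc K' := (yon S).map_injective (by rw [Functor.map_comp, hk, sqP.lift_fst])
  have hkm' : k.left ≫ m.left = K'.subschemeι := congrArg (fun f => f.left) hkm
  have hKm : K ≤ m.left.ker := by
    obtain ⟨l, hl⟩ := hsec
    exact (exists_lift_iff_le_ker he hK ((yon S).map m ≫ a) (𝟙 _) (w := m) (by simp)).1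
      ⟨(yon S).map n ≫ l, by rw [Category.assoc, hl]; exact sqP.w.symm⟩
  have hKcm : K.comap m.left = ⊥ := le_bot_iff.1 ((Scheme.IdealSheafData.map_gc m.left _ _).2 (by
    show K ≤ Scheme.IdealSheafData.map ⊥ m.left
    rw [Scheme.IdealSheafData.map_bot]; exact hKm))
  refine le_bot_iff.1 fun U => ?_
  intro s hs
  rw [Scheme.IdealSheafData.ideal_bot]
  show s = 0
  refine TopCat.Presheaf.section_ext W.left.sheaf U.1 s 0 fun w hw => ?_
  show W.left.presheaf.germ U.1 w hw s = W.left.presheaf.germ U.1 w hw 0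
  rw [map_zero]
  let v := q.left w
  let I := IntMult.stalkIdeal J v
  have hIeq : I = (J.ideal ⟨⊤, isAffineOpen_top V.left⟩).map (V.left.presheaf.germ ⊤ v trivial).hom :=
    IdealStalkLib.stalkIdeal_eq J ⟨⊤, isAffineOpen_top V.left⟩ v trivial
  have hIfg : I.FG := hIeq ▸ hJ.map _
  have hgen : ∀ f ∈ J.ideal ⟨⊤, isAffineOpen_top V.left⟩, ∃ N : ℕ,
      q.left.stalkMap w (V.left.presheaf.germ ⊤ v trivial f) ^ N * W.left.presheaf.germ U.1 w hw s = 0 := by
    intro f hf
    let fU := q.left.appLE ⊤ U.1 le_top f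
    let O := W.left.basicOpen fU
    let T : Over S := Over.mk (O.ι ≫ W.hom)
    let j : T ⟶ W := Over.homMk O.ι rfl
    have hO : O = U.1 ⊓ q.left ⁻¹ᵁ V.left.basicOpen f := Scheme.basicOpen_appLE q.left U.1 ⊤ le_top f
    obtain ⟨l, hl⟩ := hout T ((yon S).map j ≫ a) (j ≫ q) (by rw [Category.assoc, hq, Functor.map_comp]) (by
      intro z hz
      have hz2 : (z.1 : ↥W.left) ∈ U.1 ⊓ q.left ⁻¹ᵁ V.left.basicOpen f := hO ▸ z.2
      have hz3 := (Scheme.IdealSheafData.mem_support_iff_of_mem (U := ⟨⊤, isAffineOpen_top V.left⟩) trivial).1 hz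
      exact (Scheme.mem_zeroLocus_iff _ _ _).1 hz3 f hf hz2.2)
    have hKj : K ≤ j.left.ker :=
      (exists_lift_iff_le_ker he hK ((yon S).map j ≫ a) (𝟙 _) (w := j) (by simp)).1 ⟨l, hl⟩
    have h0 : O.ι.app U.1 s = 0 := (O.ι.ideal_ker_le U) (hKj U hs)
    have h1 : W.left.presheaf.map (homOfLE (W.left.basicOpen_le fU)).op s = 0 := by
      have h2 := congrArg (W.left.presheaf.map (homOfLE (show O ≤ O.ι ''ᵁ O.ι ⁻¹ᵁ U.1 from fun y hy =>
        ⟨⟨y, hy⟩, W.left.basicOpen_le fU hy, rfl⟩)).op) h0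
      rw [Scheme.Opens.ι_app] at h2
      erw [map_zero] at h2
      erw [← ConcreteCategory.comp_apply, ← Functor.map_comp] at h2
      exact h2
    haveI := U.2.isLocalization_basicOpen fU
    obtain ⟨⟨_, N, rfl⟩, hN⟩ := (IsLocalization.map_eq_zero_iff (Submonoid.powers fU)
      Γ(W.left, W.left.basicOpen fU) s).1 h1
    refine ⟨N, ?_⟩
    have hg : q.left.stalkMap w (V.left.presheaf.germ ⊤ v trivial f) = W.left.presheaf.germ U.1 w hw fU := by
      erw [Scheme.Hom.germ_stalkMap_apply]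
      simp only [fU, Scheme.Hom.appLE, CommRingCat.comp_apply]
      erw [TopCat.Presheaf.germ_res_apply]

    rw [hg, ← map_pow, ← map_mul]
    exact (congrArg _ hN).trans (map_zero _)
  let Ann : Ideal (V.left.presheaf.stalk v) :=
    { carrier := {b | q.left.stalkMap w b * W.left.presheaf.germ U.1 w hw s = 0}
      add_mem' := fun {b c} hb hc => by
        show q.left.stalkMap w (b + c) * _ = 0
        rw [map_add, add_mul, hb, hc, add_zero]
      zero_mem' := by show q.left.stalkMap w 0 * _ = 0; rw [map_zero, zero_mul]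
      smul_mem' := fun c b hb => by
        show q.left.stalkMap w (c * b) * _ = 0
        rw [map_mul, mul_assoc, hb, mul_zero] }
  obtain ⟨N, hN⟩ := Ideal.exists_pow_le_of_le_radical_of_fg (I := I) (J := Ann) (by
    rw [hIeq, Ideal.map_le_iff_le_comap]
    intro f hf
    obtain ⟨N, hN⟩ := hgen f hf
    refine ⟨N, ?_⟩
    show q.left.stalkMap w ((V.left.presheaf.germ ⊤ v trivial f) ^ N) * _ = 0
    rw [map_pow]
    exact hN) hIfg
  by_cases hv : v ∈ J.support
  · obtain ⟨z, hz⟩ : w ∈ Set.range K'.subschemeι := by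
      rw [Scheme.IdealSheafData.range_subschemeι]
      show w ∈ (J.comap q.left).support
      rw [Scheme.IdealSheafData.support_comap]
      exact hv
    rw [← hkm'] at hz
    subst hz
    refine eq_zero_stalk q.left m.left J k.left hkm' z (hflat _ hv) hIfg N _ (fun b hb => hN hb) ?_
    have h3 : IntMult.stalkIdeal (K.comap m.left) (k.left z) = ⊥ := by
      obtain ⟨U', hU', hzU', -⟩ := exists_isAffineOpen_mem_and_subset (x := k.left z) (U := (⊤ : P.left.Opens)) (by simp)
      rw [hKcm, IdealStalkLib.stalkIdeal_eq _ ⟨U', hU'⟩ _ hzU', Scheme.IdealSheafData.ideal_bot]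
      exact Ideal.map_bot
    rw [IdealStalkLib.stalkIdeal_comap] at h3
    have h4 : W.left.presheaf.germ U.1 _ hw s ∈ IntMult.stalkIdeal K ((k.left ≫ m.left) z) := by
      erw [IdealStalkLib.stalkIdeal_eq K U _ hw]
      exact Ideal.mem_map_of_mem _ hs
    exact (Submodule.mem_bot _).1 (h3 ▸ Ideal.mem_map_of_mem (m.left.stalkMap (k.left z)).hom h4)
  · obtain ⟨U₀, hv₀, hU₀⟩ := IdealStalkLib.exists_unit_nhd J hv
    have h1 : I = ⊤ := by rw [show I = _ from IdealStalkLib.stalkIdeal_eq J U₀ v hv₀, hU₀, Ideal.map_top]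
    have h2 := hN (show (1 : V.left.presheaf.stalk v) ∈ I ^ N by rw [h1, Ideal.top_pow]; trivial)
    change q.left.stalkMap w 1 * _ = 0 at h2
    rwa [map_one, one_mul] at h2

end Groth.Agent.GlueHomLib
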