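import Mathlib.RingTheory.Flat.Equalizer
import Mathlib.RingTheory.Ideal.Quotient.Operations
import Mathlib.LinearAlgebra.TensorProduct.RightExactness
import Mathlib.RingTheory.Finiteness.Ideal
import Mathlib.LinearAlgebra.TensorProduct.Pi

/-!
Torsion along an ideal is detected by a flat algebra which agrees modulo the ideal.
-/

set_option autoImplicit false

universe u

open TensorProduct

namespace Groth.Agent.GlueHomLib

variable {A B C Q : Type u} [CommRing A] [CommRing B] [CommRing C] [CommRing Q] [Algebra A B] [Algebra A C]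
  [Algebra A Q] (I : Ideal A)

theorem rTensor_injective_base (ψ : B →ₐ[A] Q) (hs : Function.Surjective ψ)
    (hk : RingHom.ker ψ ≤ I.map (algebraMap A B)) (N : Type u) [AddCommGroup N] [Module A N]
    (hN : ∀ a ∈ I, ∀ m : N, a • m = 0) : Function.Injective (ψ.toLinearMap.rTensor N) := by
  let K : Submodule A B := LinearMap.ker ψ.toLinearMap
  have hzero : K.subtype.rTensor N = 0 := by
    refine TensorProduct.ext' fun b m => ?_
    rw [LinearMap.rTensor_tmul, LinearMap.zero_apply]
    have hb : (b : B) ∈ I • (⊤ : Submodule A B) := by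
      rw [Ideal.smul_top_eq_map]
      exact hk b.2
    show (b : B) ⊗ₜ[A] m = 0
    refine Submodule.smul_induction_on hb (fun a ha y _ => ?_) (fun y z hy hz => ?_)
    · rw [TensorProduct.smul_tmul, hN a ha, TensorProduct.tmul_zero]
    · rw [TensorProduct.add_tmul, hy, hz, add_zero]
  have hex := rTensor_exact N (f := K.subtype) (g := ψ.toLinearMap)
    (LinearMap.exact_subtype_ker_map ψ.toLinearMap) hs
  rw [injective_iff_map_eq_zero]
  intro x hx
  obtain ⟨y, rfl⟩ := (hex x).1 hx
  rw [hzero, LinearMap.zero_apply]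

theorem rTensor_injective_of_pow [Module.Flat A C] (φ : B →ₐ[A] C) (ρ : C →ₐ[A] Q)
    (hs : Function.Surjective (ρ.comp φ)) (hk : RingHom.ker (ρ.comp φ) ≤ I.map (algebraMap A B)) (n : ℕ) :
    ∀ (N : Type u) [AddCommGroup N] [Module A N], (∀ a ∈ I ^ n, ∀ m : N, a • m = 0) →
      Function.Injective (φ.toLinearMap.rTensor N) := by
  induction n with
  | zero =>
    intro N _ _ hN
    haveI : Subsingleton N := ⟨fun a b => by
      have key : ∀ m : N, m = 0 := fun m => by simpa using hN 1 (by simp) m
      rw [key a, key b]⟩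
    exact fun x y _ => Subsingleton.elim x y
  | succ n ih =>
    intro N _ _ hN
    let M : Submodule A N := I • ⊤
    have hM : ∀ a ∈ I ^ n, ∀ m : M, a • m = 0 := fun a ha m => Subtype.ext (by
      show a • (m : N) = 0
      refine Submodule.smul_induction_on m.2 (fun b hb y _ => ?_) (fun y z hy hz => ?_)
      · rw [← mul_smul]
        exact hN _ (by rw [pow_succ]; exact Ideal.mul_mem_mul ha hb) y
      · rw [smul_add, hy, hz, add_zero])
    have hq : ∀ a ∈ I, ∀ m : N ⧸ M, a • m = 0 := fun a ha m => by
      obtain ⟨m, rfl⟩ := Submodule.mkQ_surjective M m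
      rw [← map_smul]
      exact (Submodule.Quotient.mk_eq_zero M).2 (Submodule.smul_mem_smul ha trivial)
    have h1 : Function.Injective (φ.toLinearMap.rTensor (N ⧸ M)) := by
      have h2 := rTensor_injective_base I (ρ.comp φ) hs hk (N ⧸ M) hq
      rw [show (ρ.comp φ).toLinearMap = ρ.toLinearMap ∘ₗ φ.toLinearMap from rfl, LinearMap.rTensor_comp] at h2
      exact Function.Injective.of_comp (f := ρ.toLinearMap.rTensor (N ⧸ M)) h2
    rw [injective_iff_map_eq_zero]
    intro x hx
    have hxq : M.mkQ.lTensor B x = 0 := h1 (by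
      rw [map_zero, ← LinearMap.comp_apply, LinearMap.rTensor_comp_lTensor, ← LinearMap.lTensor_comp_rTensor,
        LinearMap.comp_apply, hx, map_zero])
    have hex := lTensor_exact B (f := M.subtype) (g := M.mkQ) (LinearMap.exact_subtype_mkQ M)
      (Submodule.mkQ_surjective M)
    obtain ⟨s, rfl⟩ := (hex x).1 hxq
    have h3 : φ.toLinearMap.rTensor M s = 0 := Module.Flat.lTensor_preserves_injective_linearMap (M := C) M.subtype
      M.injective_subtype (by
        rw [map_zero, ← LinearMap.comp_apply, LinearMap.lTensor_comp_rTensor, ← LinearMap.rTensor_comp_lTensor,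
          LinearMap.comp_apply, hx])
    rw [ih M hM (h3.trans (map_zero _).symm), map_zero]

/-- An element killed by a power of `I` and by `φ` vanishes. -/
theorem eq_zero_of_torsion [Module.Flat A B] [Module.Flat A C] (hI : I.FG) (φ : B →ₐ[A] C) (ρ : C →ₐ[A] Q)
    (hs : Function.Surjective (ρ.comp φ)) (hk : RingHom.ker (ρ.comp φ) ≤ I.map (algebraMap A B)) (n : ℕ)
    (x : B) (hx : ∀ a ∈ I ^ n, a • x = 0) (hφ : φ x = 0) : x = 0 := by
  classical
  obtain ⟨G, hG⟩ := (hI.pow (n := n) : (I ^ n).FG)
  let μ : A →ₗ[A] (G → A) := LinearMap.pi fun g => LinearMap.toSpanSingleton A A (g : A)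
  let N := LinearMap.ker μ
  have hN : ∀ a ∈ I ^ n, ∀ m : N, a • m = 0 := fun a ha m => Subtype.ext (by
    show a • (m : A) = 0
    rw [← hG] at ha
    refine Submodule.span_induction (fun g hg => ?_) (by simp) (fun y z _ _ hy hz => ?_) (fun c y _ hy => ?_) ha
    · have := congrFun (LinearMap.mem_ker.1 m.2) ⟨g, hg⟩
      simp [μ] at this
      rw [smul_eq_mul, mul_comm]
      exact this
    · rw [add_smul, hy, hz, add_zero]
    · rw [smul_assoc, hy, smul_zero])
  have hmem : μ.lTensor B (x ⊗ₜ[A] (1 : A)) = 0 := by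
    apply (TensorProduct.piScalarRight A A B G).injective
    rw [map_zero, LinearMap.lTensor_tmul]
    funext g
    simp [μ]
    exact hx _ (hG ▸ Ideal.subset_span g.2)
  have hex := Module.Flat.lTensor_exact B (LinearMap.exact_subtype_ker_map μ)
  obtain ⟨t, ht⟩ := (hex _).1 hmem
  have h3 : φ.toLinearMap.rTensor N t = 0 := Module.Flat.lTensor_preserves_injective_linearMap (M := C) N.subtype
    N.injective_subtype (by
      rw [map_zero, ← LinearMap.comp_apply, LinearMap.lTensor_comp_rTensor, ← LinearMap.rTensor_comp_lTensor,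
        LinearMap.comp_apply]
      erw [ht]
      rw [LinearMap.rTensor_tmul]
      show φ x ⊗ₜ[A] (1 : A) = 0
      rw [hφ, TensorProduct.zero_tmul])
  have ht0 : t = 0 := rTensor_injective_of_pow I φ ρ hs hk n N hN (h3.trans (map_zero _).symm)
  rw [ht0, map_zero] at ht
  have := congrArg (TensorProduct.rid A B) ht
  simpa using this.symm

end Groth.Agent.GlueHomLib
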